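import Cfsg.Agent.Lib.CosetTable.Sound
import Cfsg.Agent.Lib.CosetTable.J2LevelA.Data

/-! Generated certificate data for the coset table `J2LevelA`. -/

namespace Cfsg.Agent.Lib.CosetTable.J2LevelA

open Cfsg.Agent.Lib.CosetTable

set_option Elab.async false
set_option maxRecDepth 10000

theorem rows_ok_run1 : rangeAll (tab.rowOK cert 90) 60 0 = true := by decide +kernel

theorem rows_ok : Below (tab.rowOK cert 90) 60 :=
  (Below.zero _).step (b := 60) rows_ok_run1 rfl

end Cfsg.Agent.Lib.CosetTable.J2LevelA
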