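import Cfsg.Agent.Lib.CosetTable.Sound
import Cfsg.Agent.Lib.CosetTable.J2LevelA.Data

/-! Generated certificate data for the coset table `J2LevelA`. -/

namespace Cfsg.Agent.Lib.CosetTable.J2LevelA

open Cfsg.Agent.Lib.CosetTable

noncomputable def streams0 : List (ℕ × ℕ) := [(64, 0x5d00005f00000800000600002c00007600007400007900000800000400000000000000002a00006100006300007300007500000500000500000000000000000000000000006700003600002e00001f00001100001300006c00006f00000800000900000000000000001500000300000500002c00002a00006100006900006b00000800000800000000000000000000000000003900003b00001800002100002900006100006300006500000800000400000000000000000000000000000000000000000b00004800004b00005b00005d00000500000300000000000000000000000000002400003d00004500005500005700000500000300000000000000000000000000004100004300003300004f00005100000500000300000000000000000000000000004000003e00004500004700004b00000500000500000000000000000a00000800001700002100002300003d00004500004700000800000700000000000000000000000000003000002e00001c00002600002400003d00003f00004100000800000600000000000000000000000000000000000000001b00001d00002f00003700003900000500000300000000000000000000000000000f00001e00002f00003100003300000500000500000000000000000000000000000000000000000700001700002100002900002b00000500000300000000000000000000000000001a00001800002100002300002500000500000500000000000000000000000000000000000000000e00000c00000500000700001700001900001b00001d00000800000400000000000000000000000000000000000000000000000000000300000d00000f000011000013000005000003000000000000000000000000000000000000000000000000000001000003000005000007000009000005000002000000000000000000000000000000000000000000000000000000000000),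
  (26, 0xaa0000a200009a00009200009700009f0000a70000af00000800000600005c00007a0000a00000a70000af00000500000500000000000000008500005000009c0000a30000ab00000500000200000000000000008100001300006c00006f00008700008900008b00003b00001800002100002300003d00003f00004100004c00005b00007a0000a00000a700001300000d00000000000000008b00003800003600003100003300004f00009c0000a300000800000600000000000000007b00005d00005f00000b00000100000300000d00000f00001e00002f00003700003900008a00008800008d00009400009200009700009f00001300000c00000000000000005100008400008200007c00006b00006d00001500000000000a00000800001700001900001b00002600005800009800009600009300009b00001300000b00000000000000005600008e00009400009200009700000500000500000000000000008f00005400004700004b00004d00004300003000002e00001f00001100008000007e00007c00006800006000002b00007600009100009300001300000a00000000000000000000000000005700005900002700001a00003a00008a00008800008d00000800000400000000000000003800006600007000008700008900000500000500000000000000000000000000005000004e00003500000f00001100008000007e00008300000800000400000000000000001300006c00006a00007d00007f000005000005)]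

theorem run0 : cert.goStreams streams0 0 = true := by decide +kernel

theorem part1 (h : cert.Upto 0) : cert.Upto 90 :=
  (h).step (b := 90) run0 rfl

end Cfsg.Agent.Lib.CosetTable.J2LevelA
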